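import Groth.Agent.Lib.Poincare.Bidual
import Groth.Agent.Lib.Poincare.PosTransfer
import Groth.Agent.Lib.AlgEquiv26.Group
import Groth.Prelude.Def_AgPol

/-!
# The Poincaré pairing along a polarisation is symmetric
-/

set_option autoImplicit false
set_option linter.all false
set_option backward.isDefEq.respectTransparency false
set_option maxHeartbeats 1000000

universe u

open CategoryTheory CategoryTheory.Limits AlgebraicGeometry Opposite TopologicalSpace
open MonoidalCategory CartesianMonoidalCategory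
open GrothLib.Ample GrothLib.Cube
open scoped MonObj

noncomputable section

namespace GrothLib.PolSym15

/-- Pic⁰ classes are closed under products. -/
theorem pz_mul {S : Scheme.{u}} {A T : Over S} {x y : Pic (A ⊗ T).left} (hx : Dual.PZ A T x) (hy : Dual.PZ A T y) :
    Dual.PZ A T (x * y) := by
  intro t Ω _ _ σ hσ
  letI : (pullback (PicF.XTproj A.hom T) σ).Over (Spec (CommRingCat.of Ω)) := ⟨pullback.snd _ σ⟩
  have h1 := (AlgEquiv26.algCls_iff Ω ((Dual.hasCls_rep x).pullback (pullback.fst (PicF.XTproj A.hom T) σ))).2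
    (hx t Ω σ hσ)
  have h2 := (AlgEquiv26.algCls_iff Ω ((Dual.hasCls_rep y).pullback (pullback.fst (PicF.XTproj A.hom T) σ))).2
    (hy t Ω σ hσ)
  have h3 := (Dual.hasCls_rep (x * y)).pullback (pullback.fst (PicF.XTproj A.hom T) σ)
  rw [map_mul] at h3
  exact (AlgEquiv26.algCls_iff Ω h3).1 (h1.mul Ω h2)

variable {S : Scheme.{u}} {A At : Over S} [GrpObj A] [GrpObj At] [IsProper A.hom] [Smooth A.hom]
  [GeometricallyIntegral A.hom] {φ : ∀ T : Over S, PicF.Cl (PicF.XT A.hom T) → (T ⟶ At)}

/-- A Pic⁰ class on `A × At` corresponding to the identity, rigidified. -/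
structure IsUniv (φ : ∀ T : Over S, PicF.Cl (PicF.XT A.hom T) → (T ⟶ At)) (x : Pic (A ⊗ At).left) : Prop where
  pz : Dual.PZ A At x
  dphi : Dual.dphi φ At x = 𝟙 At
  rig : pull (lift (1 : At ⟶ A) (𝟙 At)).left x = 1

omit [IsProper A.hom] [Smooth A.hom] [GeometricallyIntegral A.hom] in
theorem isUniv_of_isPoincareCl {P : (PicF.XT A.hom At).Modules} {x : Pic (A ⊗ At).left} (hP : HasCls P x)
    (hξ : AbDual.IsPoincareCl A At φ (PicF.cl P)) : IsUniv φ x := by
  refine ⟨(Dual.pz_iff hP).1 hξ.1, (Dual.dphi_eq hP).symm.trans hξ.2.1, ?_⟩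
  have h := hξ.2.2
  rw [Dual.secT_eq] at h
  exact Dual.cls_eq_of_cl_eq (hP.pullback _) (hasCls_structureModule _) h

/-- The pairing of two points. -/
def pair (x : Pic (A ⊗ At).left) {B : Over S} (f : B ⟶ A) (g : B ⟶ At) : Pic B.left := pull (lift f g).left x

omit [GrpObj A] [GrpObj At] [IsProper A.hom] [Smooth A.hom] [GeometricallyIntegral A.hom] in
theorem pull_pair (x : Pic (A ⊗ At).left) {B C : Over S} (σ : C ⟶ B) (f : B ⟶ A) (g : B ⟶ At) :
    pull σ.left (pair x f g) = pair x (σ ≫ f) (σ ≫ g) := by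
  rw [pair, pair, CubeRel26.pull_pull_over, comp_lift]

variable {x : Pic (A ⊗ At).left} (hx : IsUniv φ x)
include hx

omit [IsProper A.hom] [Smooth A.hom] [GeometricallyIntegral A.hom] in
theorem pair_one_left {B : Over S} (g : B ⟶ At) : pair x (1 : B ⟶ A) g = 1 := by
  have e : lift (1 : B ⟶ A) g = g ≫ lift (1 : At ⟶ A) (𝟙 At) := by
    rw [comp_lift, MonObj.comp_one, Category.comp_id]
  rw [pair, e, ← CubeRel26.pull_pull_over, hx.rig, map_one]

theorem pair_mul_left {B : Over S} (f f' : B ⟶ A) (g : B ⟶ At) :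
    pair x (f * f') g = pair x f g * pair x f' g := by
  haveI : Flat A.hom := inferInstance
  haveI : LocallyOfFinitePresentation A.hom := inferInstance
  have h := congrArg (pull (lift (𝟙 B) g).left) (Dual.pull_mul_hom f f' hx.pz hx.rig)
  have e : ∀ u : B ⟶ A, lift (𝟙 B) g ≫ (u ▷ At) = lift u g := fun u => by
    rw [lift_whiskerRight, Category.id_comp]
  simp only [map_mul, CubeRel26.pull_pull_over, e] at h
  exact h

variable (hφ : AbDual.IsDualAV Scheme.fppfPrecoverage A At φ)
include hφ

omit [IsProper A.hom] [Smooth A.hom] [GeometricallyIntegral A.hom] in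
theorem dphi_pull_whisker {T : Over S} (g : T ⟶ At) : Dual.dphi φ T (pull (A ◁ g).left x) = g := by
  rw [Dual.dphi_pull hφ hx.pz, hx.dphi, Category.comp_id]

omit [IsProper A.hom] [Smooth A.hom] [GeometricallyIntegral A.hom] hφ in
theorem rig_pull {T : Over S} (g : T ⟶ At) :
    pull (lift (1 : T ⟶ A) (𝟙 T)).left (pull (A ◁ g).left x) = 1 := by
  rw [CubeRel26.pull_pull_over, lift_whiskerLeft, Category.id_comp]
  exact pair_one_left hx g

theorem pull_whisker_mul {T : Over S} (g g' : T ⟶ At) :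
    pull (A ◁ (g * g')).left x = pull (A ◁ g).left x * pull (A ◁ g').left x := by
  haveI : Flat A.hom := inferInstance
  haveI : LocallyOfFinitePresentation A.hom := inferInstance
  have hpz : ∀ k : T ⟶ At, Dual.PZ A T (pull (A ◁ k).left x) := fun k => hx.pz.pullT k
  have hmul : Dual.PZ A T (pull (A ◁ g).left x * pull (A ◁ g').left x) := by
    exact pz_mul (hpz g) (hpz g')
  refine Dual.eq_of_dphi hφ (hpz _) hmul ?_ ?_
  · rw [map_mul, rig_pull hx, rig_pull hx, rig_pull hx, _root_.one_mul]
  · rw [Dual.dphi_mul hφ (hpz g) (hpz g'), dphi_pull_whisker hx hφ, dphi_pull_whisker hx hφ, dphi_pull_whisker hx hφ]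

theorem pair_mul_right {B : Over S} (f : B ⟶ A) (g g' : B ⟶ At) :
    pair x f (g * g') = pair x f g * pair x f g' := by
  have h := congrArg (pull (lift f (𝟙 B)).left) (pull_whisker_mul hx hφ g g')
  simp only [map_mul, CubeRel26.pull_pull_over, lift_whiskerLeft, Category.id_comp] at h
  exact h

theorem pair_one_right {B : Over S} (f : B ⟶ A) : pair x f (1 : B ⟶ At) = 1 := by
  have h := pair_mul_right hx hφ f (1 : B ⟶ At) 1
  rw [_root_.one_mul] at h
  exact left_eq_mul.1 h

end GrothLib.PolSym15
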