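import Groth.Agent.Lib.PolSym15.Basic

/-!
# Symmetry on the geometric fibres
-/

set_option autoImplicit false
set_option linter.all false
set_option backward.isDefEq.respectTransparency false
set_option maxHeartbeats 1000000

universe u

open CategoryTheory CategoryTheory.Limits AlgebraicGeometry Opposite TopologicalSpace
open MonoidalCategory CartesianMonoidalCategory
open GrothLib.Ample GrothLib.Cube
open scoped MonObj

noncomputable section

namespace GrothLib.PolSym15

variable {S S' : Scheme.{u}} {A At : Over S}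

/-- The two base changes of dual data agree. -/
theorem bcDual_eq (t : S' ⟶ S) (φ : ∀ T : Over S, PicF.Cl (PicF.XT A.hom T) → (T ⟶ At)) :
    AgPol.bcDual t A At φ = DualBC.phi t φ := by
  funext U c
  have e : (AgPol.bcXTIso t A U).inv = DualBC.cmp (b := t) A U := by
    rw [Iso.inv_eq_inv (AgPol.bcXTIso t A U) ⟨DualBC.cmpInv A U, DualBC.cmp A U, DualBC.cmpInv_cmp, DualBC.cmp_cmpInv⟩]
    refine Limits.pullback.hom_ext ?_ ?_
    · simp [AgPol.bcXTIso, DualBC.cmpInv]
    · simp [AgPol.bcXTIso, DualBC.cmpInv]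
  refine Over.OverMorphism.ext (Limits.pullback.hom_ext ?_ ?_)
  · refine (pullback.lift_fst _ _ _).trans ?_
    rw [e]
    exact (congrArg CategoryTheory.Over.Hom.left (DualBC.down_up (b := t) (φ _ (PicF.pullCl (DualBC.cmp A U) c)))).symm
  · exact (pullback.lift_snd _ _ _).trans (Over.w (DualBC.phi t φ U c)).symm

variable [GrpObj A] [GrpObj At] [IsProper A.hom] [Smooth A.hom] [GeometricallyIntegral A.hom]
  {φ : ∀ T : Over S, PicF.Cl (PicF.XT A.hom T) → (T ⟶ At)}

omit [IsProper A.hom] [Smooth A.hom] [GeometricallyIntegral A.hom] in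
theorem bcProd_whisker (t : S' ⟶ S) (lam : A ⟶ At) :
    Bidual.bcProd t A A ≫ (A ◁ lam).left =
      (DualBC.bcObj t A ◁ (Over.pullback t).map lam).left ≫ Bidual.bcProd t A At := by
  refine Limits.pullback.hom_ext (f := A.hom) (g := At.hom) ?_ ?_
  · show (_ ≫ _) ≫ (fst A At).left = (_ ≫ _) ≫ (fst A At).left
    rw [Category.assoc, ← Over.comp_left, whiskerLeft_fst, Bidual.bcProd_fst, Category.assoc, Bidual.bcProd_fst,
      ← Category.assoc, ← Over.comp_left, whiskerLeft_fst]
  · show (_ ≫ _) ≫ (snd A At).left = (_ ≫ _) ≫ (snd A At).left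
    rw [Category.assoc, ← Over.comp_left, whiskerLeft_snd, Over.comp_left, ← Category.assoc, Bidual.bcProd_snd,
      Category.assoc, Category.assoc, Bidual.bcProd_snd, ← DualBC.map_left_fst (b := t) lam, ← Category.assoc,
      ← Category.assoc, ← Over.comp_left, ← Over.comp_left, whiskerLeft_snd]

/-- On a geometric fibre the pairing along a polarisation is symmetric. -/
theorem swp_invariant (hφ : AbDual.IsDualAV Scheme.fppfPrecoverage A At φ) {x : Pic (A ⊗ At).left} (hx : IsUniv φ x)
    (lam : A ⟶ At) (hpol : AgPol.IsPolarization A At φ lam) {Ω : Type u} [Field Ω] [IsAlgClosed Ω]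
    (t : Spec (CommRingCat.of Ω) ⟶ S) :
    pull (Bidual.bcProd t A A) (pull (Bidual.swp A A).left (pull (A ◁ lam).left x)) =
      pull (Bidual.bcProd t A A) (pull (A ◁ lam).left x) := by
  obtain ⟨L, hL, hlam⟩ := hpol.2 Ω t
  haveI : IsMonHom lam := hpol.1
  let A' := DualBC.bcObj t A
  let At' := DualBC.bcObj t At
  letI : GrpObj A' := Red.grpObj_bc t A
  letI : GrpObj At' := Red.grpObj_bc t At
  haveI : IsProper A'.hom := inferInstanceAs (IsProper (pullback.snd A.hom t))
  haveI : Smooth A'.hom := inferInstanceAs (Smooth (pullback.snd A.hom t))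
  haveI : GeometricallyIntegral A'.hom := inferInstanceAs (GeometricallyIntegral (pullback.snd A.hom t))
  haveI : IsCommMonObj A' := isCommMonObj_abVar
  rw [bcDual_eq] at hlam
  let l : A' ⟶ At' := (Over.pullback t).map lam
  let z := clsMod (X := A'.left) (L := L) hL.1
  have hψ : MumfordPoincare.psi (DualBC.phi t φ) z = l := PosTransfer.psi_of_isLambda hL.1 hlam
  have hd := DualBC.isDualAV t A At φ hφ
  let x' := pull (Bidual.bcProd t A At) x
  have hpz : Dual.PZ A' At' x' := Bidual.pz_bc hφ t hx.pz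
  have hphi : Dual.dphi (DualBC.phi t φ) At' x' = 𝟙 At' := by
    rw [Bidual.phi_bc hφ t hx.pz, hx.dphi, Category.comp_id]
    exact DualBC.up_down _
  have hr : pull (lift (1 : At' ⟶ A') (𝟙 At')).left x' = 1 := Bidual.rigid_bc t hx.rig
  have key : pull (A' ◁ l).left x' = MumfordPoincare.lam z := by
    refine Dual.eq_of_dphi hd (hpz.pullT l) (MumfordPoincare.pz_lam z) ?_ ?_
    · have e : lift (1 : A' ⟶ A') (𝟙 A') ≫ A' ◁ l = l ≫ lift (1 : At' ⟶ A') (𝟙 At') := by
        apply CartesianMonoidalCategory.hom_ext <;> simp [MonObj.comp_one]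
      rw [CubeRel26.pull_pull_over, e, ← CubeRel26.pull_pull_over, hr, map_one, MumfordPoincare.lam, KL.pull_sec_mc]
    · rw [Dual.dphi_pull hd hpz, hphi, Category.comp_id]
      exact hψ.symm
  have key' : pull (Bidual.bcProd t A A) (pull (A ◁ lam).left x) = MumfordPoincare.lam z := by
    rw [Cube.pull_comp, bcProd_whisker, ← Cube.pull_comp]
    exact key
  rw [Cube.pull_comp, ← Bidual.bcProd_swp, ← Cube.pull_comp, key']
  exact PosTransfer.pull_swp_lam z

end GrothLib.PolSym15
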