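import Groth.Agent.Lib.PolSym15.Fibre

/-!
# The class attached to a polarisation through the Poincaré class
-/

set_option autoImplicit false
set_option linter.all false
set_option backward.isDefEq.respectTransparency false
set_option maxHeartbeats 2000000

universe u

open CategoryTheory CategoryTheory.Limits AlgebraicGeometry Opposite TopologicalSpace
open MonoidalCategory CartesianMonoidalCategory
open GrothLib.Ample GrothLib.Cube
open scoped MonObj

noncomputable section

namespace GrothLib.PolSym15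

variable {S : Scheme.{u}} {A At : Over S} [GrpObj A] [GrpObj At] [IsProper A.hom] [Smooth A.hom]
  [GeometricallyIntegral A.hom] {φ : ∀ T : Over S, PicF.Cl (PicF.XT A.hom T) → (T ⟶ At)}
  (hφ : AbDual.IsDualAV Scheme.fppfPrecoverage A At φ) {x : Pic (A ⊗ At).left} (hx : IsUniv φ x)
  (lam : A ⟶ At) (hpol : AgPol.IsPolarization A At φ lam)

include hφ hx hpol in
/-- The pairing along a polarisation is symmetric. -/
theorem pair_symm : pair x (fst A A) (snd A A ≫ lam) = pair x (snd A A) (fst A A ≫ lam) := by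
  haveI : IsMonHom lam := hpol.1
  haveI : Flat A.hom := inferInstance
  haveI : LocallyOfFinitePresentation A.hom := inferInstance
  let T : Over S := 𝟙_ (Over S)
  let δ : Pic (A ⊗ A).left := pair x (fst A A) (snd A A ≫ lam) * (pair x (snd A A) (fst A A ≫ lam))⁻¹
  suffices hδ : δ = 1 from mul_inv_eq_one.1 hδ
  have h1l : (1 : A ⟶ A) ≫ lam = 1 := MonObj.one_comp _
  have hax₁ : pull (lift (1 : A ⟶ A) (𝟙 A)).left δ = 1 := by
    simp only [δ, map_mul, map_inv, pull_pair, lift_fst, lift_snd, lift_snd_assoc, lift_fst_assoc, Category.id_comp, h1l]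
    rw [pair_one_left hx, pair_one_right hx hφ, inv_one, _root_.mul_one]
  have hax₂ : pull (lift (𝟙 A) (1 : A ⟶ A)).left δ = 1 := by
    simp only [δ, map_mul, map_inv, pull_pair, lift_fst, lift_snd, lift_snd_assoc, lift_fst_assoc, Category.id_comp, h1l]
    rw [pair_one_left hx, pair_one_right hx hφ, inv_one, _root_.mul_one]
  let e : S ⟶ A.left := (η[A] : 𝟙_ (Over S) ⟶ A).left
  have he : e ≫ A.hom = 𝟙 S := Over.w (η[A] : 𝟙_ (Over S) ⟶ A)
  obtain ⟨c, hc⟩ := Quotient.exists_rep (pull (fst (A ⊗ A) T).left δ)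
  change cls c = pull (fst (A ⊗ A) T).left δ at hc
  let M : (pullback (pullback.fst A.hom A.hom ≫ A.hom) T.hom).Modules := c.twist 1
  have hM : PicF.IsInvertible M := c.isInvertible_twist 1
  have hcls : clsMod hM = pull (fst (A ⊗ A) T).left δ := (clsMod_eq hM (Iso.refl _)).trans hc
  have wx : (A.hom ≫ e) ≫ A.hom = 𝟙 A.left ≫ A.hom := by simp [he]
  have wy : 𝟙 A.left ≫ A.hom = (A.hom ≫ e) ≫ A.hom := by simp [he]
  let sx : A ⊗ T ⟶ (A ⊗ A) ⊗ T := lift (toUnit A ≫ η[A]) (𝟙 A) ▷ T
  let sy : A ⊗ T ⟶ (A ⊗ A) ⊗ T := lift (𝟙 A) (toUnit A ≫ η[A]) ▷ T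
  have hfst : ∀ a : A ⟶ A ⊗ A, (a ▷ T).left ≫ pullback.fst (pullback.fst A.hom A.hom ≫ A.hom) T.hom =
      pullback.fst A.hom T.hom ≫ a.left := fun a => congrArg CategoryTheory.Over.Hom.left (whiskerRight_fst a T)
  have hsnd : ∀ a : A ⟶ A ⊗ A, (a ▷ T).left ≫ pullback.snd (pullback.fst A.hom A.hom ≫ A.hom) T.hom =
      pullback.snd A.hom T.hom := fun a => congrArg CategoryTheory.Over.Hom.left (whiskerRight_snd a T)
  have hs₁ : pullback.map (pullback.lift (A.hom ≫ e) (𝟙 A.left) wx ≫ (pullback.fst A.hom A.hom ≫ A.hom)) T.hom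
      (pullback.fst A.hom A.hom ≫ A.hom) T.hom (pullback.lift (A.hom ≫ e) (𝟙 A.left) wx) (𝟙 T.left) (𝟙 S)
      (Category.comp_id _) ((Category.comp_id _).trans (Category.id_comp _).symm) =
      (pullback.congrHom (pullback.lift_fst_assoc _ _ _ _ |>.trans (wx.trans (Category.id_comp _))) rfl).hom ≫ sx.left := by
    refine pullback.hom_ext (pullback.hom_ext ?_ ?_) ?_ <;> simp [sx, e, pullback.map, reassoc_of% hfst, hsnd]
  have hs₂ : pullback.map (pullback.lift (𝟙 A.left) (A.hom ≫ e) wy ≫ (pullback.fst A.hom A.hom ≫ A.hom)) T.hom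
      (pullback.fst A.hom A.hom ≫ A.hom) T.hom (pullback.lift (𝟙 A.left) (A.hom ≫ e) wy) (𝟙 T.left) (𝟙 S)
      (Category.comp_id _) ((Category.comp_id _).trans (Category.id_comp _).symm) =
      (pullback.congrHom (pullback.lift_fst_assoc _ _ _ _ |>.trans (Category.id_comp _)) rfl).hom ≫ sy.left := by
    refine pullback.hom_ext (pullback.hom_ext ?_ ?_) ?_ <;> simp [sy, e, pullback.map, reassoc_of% hfst, hsnd]
  obtain ⟨W, -, hWz, hW'⟩ := CubeRel26.exists_clopen_cube' A.hom A.hom T.hom e he e he M hM wx wy _ _ _ _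
    (by
      rw [hs₁, ← Cube.pull_comp, hcls]
      erw [CubeRel26.pull_pull_over]
      rw [show sx ≫ fst (A ⊗ A) T = fst A T ≫ lift (toUnit A ≫ η[A]) (𝟙 A) from whiskerRight_fst _ _,
        ← Hom.one_def, ← CubeRel26.pull_pull_over, hax₁, map_one, map_one])
    (by
      rw [hs₂, ← Cube.pull_comp, hcls]
      erw [CubeRel26.pull_pull_over]
      rw [show sy ≫ fst (A ⊗ A) T = fst A T ≫ lift (𝟙 A) (toUnit A ≫ η[A]) from whiskerRight_fst _ _,
        ← Hom.one_def, ← CubeRel26.pull_pull_over, hax₂, map_one, map_one])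
  rw [hcls] at hWz hW'
  have hW : W = ⊤ := top_le_iff.1 fun t _ => hWz t (by
    haveI : GeometricallyIntegral (pullback.fst A.hom A.hom) := MorphismProperty.pullback_fst _ _ inferInstance
    haveI : Flat (pullback.fst A.hom A.hom) := inferInstance
    haveI : GeometricallyIntegral (pullback.fst A.hom A.hom ≫ A.hom) := CubeRel26.geometricallyIntegral_comp _ _
    let r := pullback.snd (pullback.fst A.hom A.hom ≫ A.hom) T.hom
    haveI : GeometricallyIntegral r := MorphismProperty.pullback_snd _ _ inferInstance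
    haveI : IsProper r := inferInstance
    haveI : GeometricallyIntegral (r.fiberToSpecResidueField t) := MorphismProperty.pullback_snd _ _ inferInstance
    haveI : IsProper (r.fiberToSpecResidueField t) := MorphismProperty.pullback_snd _ _ inferInstance
    let Ω := AlgebraicClosure (T.left.residueField t)
    let b : Spec (CommRingCat.of Ω) ⟶ Spec (CommRingCat.of (T.left.residueField t)) :=
      Spec.map (CommRingCat.ofHom (algebraMap (T.left.residueField t) Ω))
    let σ : Spec (CommRingCat.of Ω) ⟶ S := b ≫ T.left.fromSpecResidueField t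
    let s : Over.mk σ ⟶ T := Over.homMk σ (Category.comp_id _)
    have hsq : IsPullback ((A ⊗ A) ◁ s).left (snd (A ⊗ A) (Over.mk σ)).left r σ := by
      refine IsPullback.of_right ?_ ?_ (IsPullback.of_hasPullback (pullback.fst A.hom A.hom ≫ A.hom) T.hom)
      · rw [show ((A ⊗ A) ◁ s).left ≫ pullback.fst (pullback.fst A.hom A.hom ≫ A.hom) T.hom =
          (fst (A ⊗ A) (Over.mk σ)).left from congrArg CategoryTheory.Over.Hom.left (whiskerLeft_fst (A ⊗ A) s),
          show σ ≫ T.hom = σ from Category.comp_id σ]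
        exact IsPullback.of_hasPullback (pullback.fst A.hom A.hom ≫ A.hom) σ
      · exact congrArg CategoryTheory.Over.Hom.left (whiskerLeft_snd (A ⊗ A) s)
    let g : ((A ⊗ A) ⊗ Over.mk σ).left ⟶ r.fiber t :=
      pullback.lift ((A ⊗ A) ◁ s).left ((snd (A ⊗ A) (Over.mk σ)).left ≫ b)
        (by rw [hsq.w]; simp [σ])
    have H : IsPullback g (snd (A ⊗ A) (Over.mk σ)).left (r.fiberToSpecResidueField t) b := by
      refine IsPullback.of_right ?_ (pullback.lift_snd _ _ _)
        (IsPullback.of_hasPullback r (T.left.fromSpecResidueField t))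
      rw [pullback.lift_fst]
      exact hsq
    refine KL.eq_one_of_pull_field (K := (T.left.residueField t)) (K' := Ω) H _ ?_
    rw [Cube.pull_comp, show g ≫ r.fiberι t = ((A ⊗ A) ◁ s).left from pullback.lift_fst _ _ _]
    erw [CubeRel26.pull_pull_over]
    rw [whiskerLeft_fst]
    let P : Over S := Over.mk σ
    let u : ((A ⊗ A) ⊗ P).left ⟶ (DualBC.bcObj σ A ⊗ DualBC.bcObj σ A).left :=
      pullback.lift
        (pullback.lift (fst (A ⊗ A) P ≫ fst A A).left (snd (A ⊗ A) P).left
          ((Over.w (fst (A ⊗ A) P ≫ fst A A)).trans (Over.w (snd (A ⊗ A) P)).symm))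
        (pullback.lift (fst (A ⊗ A) P ≫ snd A A).left (snd (A ⊗ A) P).left
          ((Over.w (fst (A ⊗ A) P ≫ snd A A)).trans (Over.w (snd (A ⊗ A) P)).symm))
        ((pullback.lift_snd _ _ _).trans (pullback.lift_snd _ _ _).symm)
    have hu : u ≫ Bidual.bcProd σ A A = (fst (A ⊗ A) P).left := by
      refine Limits.pullback.hom_ext (f := A.hom) (g := A.hom) ?_ ?_
      · show (_ ≫ _) ≫ (fst A A).left = _ ≫ (fst A A).left
        rw [Category.assoc, Bidual.bcProd_fst, ← Category.assoc]
        refine (congrArg (· ≫ pullback.fst A.hom σ) (pullback.lift_fst _ _ _)).trans ?_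
        exact pullback.lift_fst _ _ _
      · show (_ ≫ _) ≫ (snd A A).left = _ ≫ (snd A A).left
        rw [Category.assoc, Bidual.bcProd_snd, ← Category.assoc]
        refine (congrArg (· ≫ pullback.fst A.hom σ) (pullback.lift_snd _ _ _)).trans ?_
        exact pullback.lift_fst _ _ _
    rw [← hu, ← Cube.pull_comp]
    have hsym := swp_invariant hφ hx lam hpol σ
    have e1 : pull (A ◁ lam).left x = pair x (fst A A) (snd A A ≫ lam) := by
      rw [pair, ← lift_whiskerLeft, lift_fst_snd, Category.id_comp]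
    have e2 : pull (Bidual.swp A A).left (pull (A ◁ lam).left x) = pair x (snd A A) (fst A A ≫ lam) := by
      rw [e1, pull_pair, Bidual.swp, lift_fst, lift_snd_assoc]
    rw [e2, e1] at hsym
    simp only [δ, map_mul, map_inv, hsym, mul_inv_cancel, map_one])
  subst hW
  have h := congrArg (pull (Scheme.topIso (pullback (pullback.fst A.hom A.hom ≫ A.hom) T.hom)).inv) hW'
  rw [map_one] at h
  have h2 : pull (fst (A ⊗ A) T).left δ = 1 :=
    ((Cube.pull_id _).symm.trans (congrArg (fun f => pull f _)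
      (Scheme.topIso (pullback (pullback.fst A.hom A.hom ≫ A.hom) T.hom)).inv_hom_id.symm)).trans
      ((Cube.pull_comp _ _ _).symm.trans h)
  have h3 := congrArg (pull (lift (𝟙 (A ⊗ A)) (toUnit (A ⊗ A))).left) h2
  rwa [CubeRel26.pull_pull_over, lift_fst, map_one, Over.id_left, Cube.pull_id] at h3

include hφ hx hpol in
/-- The class of the graph of a polarisation, pulled back along the group law. -/
theorem pull_mul_graph :
    pull (μ[A]).left (pair x (𝟙 A) lam) = pull (A ◁ (lam * lam)).left x * pull (fst A A).left (pair x (𝟙 A) lam) *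
      pull (snd A A).left (pair x (𝟙 A) lam) := by
  haveI : IsMonHom lam := hpol.1
  have hn : pull (A ◁ (lam * lam)).left x =
      pair x (fst A A) (snd A A ≫ lam) * pair x (snd A A) (fst A A ≫ lam) := by
    rw [← pair_symm hφ hx lam hpol, ← pair_mul_right hx hφ, ← MonObj.comp_mul, pair, ← lift_whiskerLeft,
      lift_fst_snd, Category.id_comp]
  rw [hn, pull_pair, pull_pair, pull_pair, Category.comp_id, Category.comp_id, Category.comp_id, MonObj.mul_eq_mul,
    MonObj.mul_comp, pair_mul_left hx, pair_mul_right hx hφ, pair_mul_right hx hφ]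
  simp only [mul_comm, mul_left_comm, _root_.mul_assoc]

include hφ hx hpol in
/-- The homomorphism attached to the pullback of the universal class along the graph of a polarisation. -/
theorem isLambda_sq {L : A.left.Modules} (hL : HasCls L (pair x (𝟙 A) lam)) :
    AgPol.IsLambda A At φ L (lam * lam) :=
  ⟨Dual.rep _, (Dual.hasCls_rep (pull (A ◁ (lam * lam)).left x)).1,
    (((Dual.hasCls_rep _).tensor (hL.pullback _)).tensor (hL.pullback _)).iso (hL.pullback _)
      (pull_mul_graph hφ hx lam hpol).symm,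
    (Dual.dphi_eq (Dual.hasCls_rep _)).trans (dphi_pull_whisker hx hφ _)⟩

include hφ hx in
theorem pull_whisker_pow {T : Over S} (g : T ⟶ At) (k : ℕ) :
    pull (A ◁ (g ^ k)).left x = pull (A ◁ g).left x ^ k := by
  induction k with
  | zero =>
    rw [pow_zero, pow_zero]
    have h1 := pair_one_right hx hφ (fst A T)
    rw [pair, show lift (fst A T) (1 : A ⊗ T ⟶ At) = A ◁ (1 : T ⟶ At) by
      apply CartesianMonoidalCategory.hom_ext <;> simp [MonObj.comp_one]] at h1
    exact h1
  | succ m ih => rw [pow_succ, pow_succ, pull_whisker_mul hx hφ, ih]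

omit [IsProper A.hom] [Smooth A.hom] [GeometricallyIntegral A.hom] in
theorem cancel_aux {G : Type*} [CommGroup G] (n p q : G) (k : ℕ) : (n * p * q) ^ k * (p ^ k * q ^ k)⁻¹ = n ^ k := by
  rw [_root_.mul_assoc n, mul_pow, mul_pow p, mul_inv_cancel_right]

include hφ hx in
/-- Polarisations with the same power of the graph class are equal up to torsion. -/
theorem pow_eq_of_graph_pow_eq (lam₁ lam₂ : A ⟶ At) (h₁ : AgPol.IsPolarization A At φ lam₁)
    (h₂ : AgPol.IsPolarization A At φ lam₂) (k : ℕ)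
    (h : pair x (𝟙 A) lam₁ ^ k = pair x (𝟙 A) lam₂ ^ k) : (lam₁ * lam₁) ^ k = (lam₂ * lam₂) ^ k := by
  have e : ∀ lam : A ⟶ At, AgPol.IsPolarization A At φ lam →
      pull (A ◁ ((lam * lam) ^ k)).left x = pull (μ[A]).left (pair x (𝟙 A) lam ^ k) *
        (pull (fst A A).left (pair x (𝟙 A) lam ^ k) * pull (snd A A).left (pair x (𝟙 A) lam ^ k))⁻¹ := by
    intro lam hl
    rw [map_pow, map_pow, map_pow, pull_mul_graph hφ hx lam hl]
    exact (pull_whisker_pow hφ hx _ k).trans (cancel_aux _ _ _ k).symm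
  have e' := congrArg (Dual.dphi φ A) ((e lam₁ h₁).trans ((congrArg (fun y => pull (μ[A]).left y *
    (pull (fst A A).left y * pull (snd A A).left y)⁻¹) h).trans (e lam₂ h₂).symm))
  exact (dphi_pull_whisker hx hφ _).symm.trans (e'.trans (dphi_pull_whisker hx hφ _))

omit [IsProper A.hom] [Smooth A.hom] [GeometricallyIntegral A.hom] in
/-- The attached homomorphism is unique. -/
theorem isLambda_unique {L : A.left.Modules} (hL : PicF.IsInvertible L) {f g : A ⟶ At}
    (hf : AgPol.IsLambda A At φ L f) (hg : AgPol.IsLambda A At φ L g) : f = g := by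
  obtain ⟨N, hN, ⟨i⟩, rfl⟩ := hf
  obtain ⟨N', hN', ⟨i'⟩, rfl⟩ := hg
  have hl := hasCls_clsMod hL
  have e := (((hasCls_clsMod hN).tensor (hl.pullback (fst A A).left)).tensor (hl.pullback (snd A A).left)).eq
    (hl.pullback (X := A.left) (μ[A]).left) ⟨i⟩
  have e' := (((hasCls_clsMod hN').tensor (hl.pullback (fst A A).left)).tensor (hl.pullback (snd A A).left)).eq
    (hl.pullback (X := A.left) (μ[A]).left) ⟨i'⟩
  have := mul_right_cancel (mul_right_cancel (e.trans e'.symm))
  exact congrArg (φ A) (Dual.cl_eq (hasCls_clsMod hN) (this ▸ hasCls_clsMod hN'))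

end GrothLib.PolSym15
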